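import Cfsg.Agent.Lib.Helper51.OE.F1
import Cfsg.Agent.Lib.Helper57.OE.Base
import Cfsg.Agent.Lib.Helper57.OE.Defs2

set_option autoImplicit false
set_option linter.unusedSectionVars false

namespace Cfsg.Agent.Lib.Helper22.OE

open Cfsg Cfsg.Geo Matrix Cfsg.Agent.Lib.Helper13.Asch Cfsg.Agent.Lib.Helper90.Sp
open Cfsg.Agent.Lib.Helper57.OE
open scoped Kronecker MatrixGroups

variable {ι : Type} [Fintype ι] [DecidableEq ι] {F : Type*} [Field F] {Q : (ι → F) → F}

/-- the slice `y ↦ P (x ⊗ y)` -/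
def slice {a b : ℕ} (e : ι ≃ Fin a × Fin b) (P : GL ι F) (x : Fin a → F) :
    (Fin b → F) →ₗ[F] (ι → F) where
  toFun y := pureV e P x y
  map_add' y y' := by
    unfold pureV
    rw [← Matrix.mulVec_add]
    congr 1
    ext i
    simp [mul_add]
  map_smul' c y := by
    unfold pureV
    rw [RingHom.id_apply, ← Matrix.mulVec_smul]
    congr 1
    ext i
    simp [mul_left_comm]

/-- YT1s -/
theorem slice_props {a b : ℕ} (e : ι ≃ Fin a × Fin b) (P : GL ι F) (x : Fin a → F) (hx : x ≠ 0) :
    Function.Injective (slice e P x) ∧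
      Module.finrank F (LinearMap.range (slice e P x)) = b := by
  have hinj : Function.Injective (slice e P x) := by
    intro y y' hyy
    obtain ⟨i0, hi0⟩ := Function.ne_iff.1 hx
    have h1 : (P : Matrix ι ι F) *ᵥ ((fun p : Fin a × Fin b => x p.1 * y p.2) ∘ e)
        = (P : Matrix ι ι F) *ᵥ ((fun p : Fin a × Fin b => x p.1 * y' p.2) ∘ e) := hyy
    have h2 : ((fun p : Fin a × Fin b => x p.1 * y p.2) ∘ e)
        = ((fun p : Fin a × Fin b => x p.1 * y' p.2) ∘ e) := by
      have h3 := congrArg (fun w => ((P⁻¹ : GL ι F) : Matrix ι ι F) *ᵥ w) h1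
      simp only [Matrix.mulVec_mulVec, ← Units.val_mul, inv_mul_cancel, Units.val_one,
        Matrix.one_mulVec] at h3
      exact h3
    funext j
    have h4 := congrFun h2 (e.symm (i0, j))
    simp only [Function.comp_apply, Equiv.apply_symm_apply] at h4
    exact mul_left_cancel₀ hi0 h4
  refine ⟨hinj, ?_⟩
  rw [LinearMap.finrank_range_of_inj hinj, Module.finrank_fin_fun]

end Cfsg.Agent.Lib.Helper22.OE
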